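import Mathlib
import Groth.Agent.Lib.Lead.SC.Basic
import Groth.Agent.Lib.Lead.SC.KInjAdj
import Groth.Agent.Lib.Lead.SC.ClosedEmb

/-! # Extension by zero from a slice site, for abelian presheaves and sheaves. -/

universe u
open CategoryTheory Limits Opposite

namespace Groth.Agent.LD.AbPull

variable {C : Type u} [SmallCategory C] (X : C)

open scoped Classical in
/-- the summand type. -/
abbrev EZ (G : (Over X)ᵒᵖ ⥤ AddCommGrpCat.{u}) (V : C) : Type u :=
  DirectSum (V ⟶ X) (fun f => G.obj (op (Over.mk f)))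

open scoped Classical in
/-- inclusion of a summand. -/
noncomputable abbrev ezOf (G : (Over X)ᵒᵖ ⥤ AddCommGrpCat.{u}) {V : C} (f : V ⟶ X) :
    G.obj (op (Over.mk f)) →+ EZ X G V :=
  DirectSum.of (fun f : V ⟶ X => G.obj (op (Over.mk f))) f

open scoped Classical in
lemma of_congr (G : (Over X)ᵒᵖ ⥤ AddCommGrpCat.{u}) {V : C} {f f' : V ⟶ X} (h : f = f')
    {W : Over X} (a : Over.mk f ⟶ W) (a' : Over.mk f' ⟶ W) (ha : a.left = a'.left)
    (x : G.obj (op W)) :
    DirectSum.of (fun f : V ⟶ X => G.obj (op (Over.mk f))) f (G.map a.op x) =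
      DirectSum.of (fun f : V ⟶ X => G.obj (op (Over.mk f))) f' (G.map a'.op x) := by
  subst h
  have : a = a' := Over.OverMorphism.ext ha
  rw [this]

open scoped Classical in
/-- the transition maps of `j_! G`. -/
noncomputable def ezMap (G : (Over X)ᵒᵖ ⥤ AddCommGrpCat.{u}) {V W : C} (g : W ⟶ V) :
    EZ X G V →+ EZ X G W :=
  DirectSum.toAddMonoid fun f =>
    (DirectSum.of (fun f' : W ⟶ X => G.obj (op (Over.mk f'))) (g ≫ f)).comp
      (G.map (Over.homMk g : Over.mk (g ≫ f) ⟶ Over.mk f).op).hom

open scoped Classical in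
lemma ezMap_of (G : (Over X)ᵒᵖ ⥤ AddCommGrpCat.{u}) {V W : C} (g : W ⟶ V) (f : V ⟶ X)
    (x : G.obj (op (Over.mk f))) :
    ezMap X G g (DirectSum.of _ f x) =
      DirectSum.of (fun f' : W ⟶ X => G.obj (op (Over.mk f'))) (g ≫ f)
        (G.map (Over.homMk g : Over.mk (g ≫ f) ⟶ Over.mk f).op x) := by
  unfold ezMap
  rw [DirectSum.toAddMonoid_of]
  rfl

open scoped Classical in
/-- extension by zero of an abelian presheaf on the slice. -/
noncomputable def ezPre (G : (Over X)ᵒᵖ ⥤ AddCommGrpCat.{u}) : Cᵒᵖ ⥤ AddCommGrpCat.{u} where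
  obj V := AddCommGrpCat.of (EZ X G V.unop)
  map g := AddCommGrpCat.ofHom (ezMap X G g.unop)
  map_id V := by
    refine AddCommGrpCat.hom_ext (DirectSum.addHom_ext fun f x => ?_)
    change ezMap X G (𝟙 V.unop) (DirectSum.of _ f x) = DirectSum.of _ f x
    rw [ezMap_of]
    have h := of_congr X G (Category.id_comp f)
      (Over.homMk (𝟙 V.unop) : Over.mk (𝟙 V.unop ≫ f) ⟶ Over.mk f) (𝟙 (Over.mk f)) rfl x
    rw [h]
    simp
  map_comp {V W Z} g g' := by
    refine AddCommGrpCat.hom_ext (DirectSum.addHom_ext fun f x => ?_)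
    change ezMap X G (g'.unop ≫ g.unop) (DirectSum.of _ f x) =
      ezMap X G g'.unop (ezMap X G g.unop (DirectSum.of _ f x))
    rw [ezMap_of, ezMap_of, ezMap_of]
    rw [← ConcreteCategory.comp_apply, ← G.map_comp, ← op_comp]
    exact of_congr X G (Category.assoc _ _ _) _ _ rfl x

open scoped Classical in
/-- functoriality of `j_!` in the presheaf. -/
noncomputable def ezPreMap {G G' : (Over X)ᵒᵖ ⥤ AddCommGrpCat.{u}} (φ : G ⟶ G') :
    ezPre X G ⟶ ezPre X G' where
  app V := AddCommGrpCat.ofHom
    (DirectSum.map (fun f : V.unop ⟶ X => (φ.app (op (Over.mk f))).hom))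
  naturality {V W} g := by
    refine AddCommGrpCat.hom_ext (DirectSum.addHom_ext fun f x => ?_)
    change DirectSum.map _ (ezMap X G g.unop (ezOf X G f x)) =
      ezMap X G' g.unop (DirectSum.map _ (ezOf X G f x))
    rw [ezMap_of, DirectSum.map_of, DirectSum.map_of, ezMap_of]
    congr 1
    exact ConcreteCategory.congr_hom (φ.naturality
      (Over.homMk g.unop : Over.mk (g.unop ≫ f) ⟶ Over.mk f).op) x

open scoped Classical in
/-- `j_!` on abelian presheaves. -/
noncomputable def ezF : ((Over X)ᵒᵖ ⥤ AddCommGrpCat.{u}) ⥤ (Cᵒᵖ ⥤ AddCommGrpCat.{u}) where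
  obj G := ezPre X G
  map φ := ezPreMap X φ
  map_id G := by
    ext V : 2
    refine AddCommGrpCat.hom_ext (DirectSum.addHom_ext fun f x => ?_)
    change DirectSum.map _ (ezOf X G f x) = ezOf X G f x
    rw [DirectSum.map_of]
    rfl
  map_comp φ ψ := by
    ext V : 2
    refine AddCommGrpCat.hom_ext (DirectSum.addHom_ext fun f x => ?_)
    change DirectSum.map _ (ezOf X _ f x) =
      DirectSum.map _ (DirectSum.map _ (ezOf X _ f x))
    rw [DirectSum.map_of, DirectSum.map_of, DirectSum.map_of]
    rfl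

open scoped Classical in
instance : (ezF X).PreservesMonomorphisms where
  preserves {G G'} φ hφ := by
    haveI : ∀ V, Mono (((ezF X).map φ).app V) := fun V => by
      rw [AddCommGrpCat.mono_iff_injective]
      refine DirectSum.map_injective _ |>.2 (fun f => ?_)
      haveI : Mono (φ.app (op (Over.mk f))) := inferInstance
      exact (AddCommGrpCat.mono_iff_injective _).1 inferInstance
    exact NatTrans.mono_of_mono_app _

/-- restriction of presheaves to the slice. -/
abbrev jres : (Cᵒᵖ ⥤ AddCommGrpCat.{u}) ⥤ ((Over X)ᵒᵖ ⥤ AddCommGrpCat.{u}) :=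
  (Functor.whiskeringLeft _ _ _).obj (Over.forget X).op

open scoped Classical in
/-- forward direction of the adjunction `j_! ⊣ j^*` on presheaves. -/
noncomputable def ezHomTo {G : (Over X)ᵒᵖ ⥤ AddCommGrpCat.{u}} {H : Cᵒᵖ ⥤ AddCommGrpCat.{u}}
    (α : (ezF X).obj G ⟶ H) : G ⟶ (jres X).obj H where
  app W := AddCommGrpCat.ofHom ((α.app (op W.unop.left)).hom.comp (ezOf X G W.unop.hom))
  naturality {W W'} a := by
    refine AddCommGrpCat.hom_ext (AddMonoidHom.ext fun x => ?_)
    change (α.app (op W'.unop.left)) (ezOf X G W'.unop.hom (G.map a x)) =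
      H.map a.unop.left.op ((α.app (op W.unop.left)) (ezOf X G W.unop.hom x))
    have h1 := ConcreteCategory.congr_hom (α.naturality a.unop.left.op) (ezOf X G W.unop.hom x)
    refine Eq.trans ?_ h1
    change _ = (α.app (op W'.unop.left)) (ezMap X G a.unop.left (ezOf X G W.unop.hom x))
    rw [ezMap_of]
    congr 1
    exact (of_congr X G (Over.w a.unop)
      (Over.homMk a.unop.left : Over.mk (a.unop.left ≫ W.unop.hom) ⟶ Over.mk W.unop.hom)
      a.unop rfl x).symm

open scoped Classical in
/-- the map out of the direct sum induced by a map of presheaves on the slice. -/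
noncomputable def ezDesc {G : (Over X)ᵒᵖ ⥤ AddCommGrpCat.{u}} {H : Cᵒᵖ ⥤ AddCommGrpCat.{u}}
    (β : G ⟶ (jres X).obj H) (V : C) : EZ X G V →+ H.obj (op V) :=
  DirectSum.toAddMonoid (fun f : V ⟶ X => (β.app (op (Over.mk f))).hom)

open scoped Classical in
lemma ezDesc_of {G : (Over X)ᵒᵖ ⥤ AddCommGrpCat.{u}} {H : Cᵒᵖ ⥤ AddCommGrpCat.{u}}
    (β : G ⟶ (jres X).obj H) {V : C} (f : V ⟶ X) (x : G.obj (op (Over.mk f))) :
    ezDesc X β V (ezOf X G f x) = (β.app (op (Over.mk f))) x := by
  unfold ezDesc
  rw [DirectSum.toAddMonoid_of]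
  rfl

open scoped Classical in
/-- backward direction of the adjunction `j_! ⊣ j^*` on presheaves. -/
noncomputable def ezHomInv {G : (Over X)ᵒᵖ ⥤ AddCommGrpCat.{u}} {H : Cᵒᵖ ⥤ AddCommGrpCat.{u}}
    (β : G ⟶ (jres X).obj H) : (ezF X).obj G ⟶ H where
  app V := AddCommGrpCat.ofHom (ezDesc X β V.unop)
  naturality {V V'} g := by
    refine AddCommGrpCat.hom_ext (DirectSum.addHom_ext fun f x => ?_)
    change ezDesc X β V'.unop (ezMap X G g.unop (ezOf X G f x)) =
      H.map g (ezDesc X β V.unop (ezOf X G f x))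
    rw [ezMap_of, ezDesc_of, ezDesc_of]
    exact ConcreteCategory.congr_hom (β.naturality
      (Over.homMk g.unop : Over.mk (g.unop ≫ f) ⟶ Over.mk f).op) x

open scoped Classical in
/-- the hom equivalence of `j_! ⊣ j^*` on presheaves. -/
noncomputable def ezHomEquiv (G : (Over X)ᵒᵖ ⥤ AddCommGrpCat.{u}) (H : Cᵒᵖ ⥤ AddCommGrpCat.{u}) :
    ((ezF X).obj G ⟶ H) ≃ (G ⟶ (jres X).obj H) where
  toFun := ezHomTo X
  invFun := ezHomInv X
  left_inv α := by
    ext V : 2
    refine AddCommGrpCat.hom_ext (DirectSum.addHom_ext fun f x => ?_)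
    change ezDesc X (ezHomTo X α) V.unop (ezOf X G f x) = _
    rw [ezDesc_of]
    rfl
  right_inv β := by
    ext W : 2
    refine AddCommGrpCat.hom_ext (AddMonoidHom.ext fun x => ?_)
    change ezDesc X β W.unop.left (ezOf X G W.unop.hom x) = _
    rw [ezDesc_of]
    rfl

open scoped Classical in
/-- `j_! ⊣ j^*` on abelian presheaves. -/
noncomputable def ezAdj : ezF X ⊣ jres X :=
  Adjunction.mkOfHomEquiv
    { homEquiv := ezHomEquiv X
      homEquiv_naturality_left_symm := by
        intro G G' H φ β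
        ext V : 2
        refine AddCommGrpCat.hom_ext (DirectSum.addHom_ext fun f x => ?_)
        change ezDesc X (φ ≫ β) V.unop (ezOf X G f x) =
          ezDesc X β V.unop (DirectSum.map _ (ezOf X G f x))
        rw [DirectSum.map_of]
        change _ = ezDesc X β V.unop (ezOf X G' f _)
        rw [ezDesc_of, ezDesc_of]
        rfl
      homEquiv_naturality_right := by
        intro G H H' α ψ
        ext W : 2
        refine AddCommGrpCat.hom_ext (AddMonoidHom.ext fun x => ?_)
        rfl }

section Sheaf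

variable (J : GrothendieckTopology C)

/-- restriction of abelian sheaves to the slice site. -/
noncomputable abbrev jresSh : Sheaf J AddCommGrpCat.{u} ⥤ Sheaf (J.over X) AddCommGrpCat.{u} :=
  (Over.forget X).sheafPushforwardContinuous AddCommGrpCat.{u} (J.over X) J

/-- extension by zero of abelian sheaves from the slice site. -/
noncomputable def ezSh : Sheaf (J.over X) AddCommGrpCat.{u} ⥤ Sheaf J AddCommGrpCat.{u} :=
  sheafToPresheaf (J.over X) AddCommGrpCat.{u} ⋙ ezF X ⋙ presheafToSheaf J AddCommGrpCat.{u}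

/-- `j_! ⊣ j^*` on abelian sheaves. -/
noncomputable def ezShAdj : ezSh X J ⊣ jresSh X J :=
  Adjunction.restrictFullyFaithful
    (iC := sheafToPresheaf (J.over X) AddCommGrpCat.{u}) (iD := 𝟭 (Sheaf J AddCommGrpCat.{u}))
    ((ezAdj X).comp (sheafificationAdjunction J AddCommGrpCat.{u}))
    (fullyFaithfulSheafToPresheaf _ _) (Functor.FullyFaithful.id _)
    (Functor.rightUnitor _).symm
    (NatIso.ofComponents (fun F => Iso.refl _))

instance : (ezSh X J).PreservesMonomorphisms := by
  haveI : (presheafToSheaf J AddCommGrpCat.{u}).PreservesMonomorphisms :=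
    preservesMonomorphisms_of_preservesLimitsOfShape _
  haveI : (sheafToPresheaf (J.over X) AddCommGrpCat.{u}).PreservesMonomorphisms :=
    preservesMonomorphisms_of_preservesLimitsOfShape _
  unfold ezSh
  infer_instance

/-- restriction to the slice site preserves injective abelian sheaves. -/
lemma injective_jresSh (Q : Sheaf J AddCommGrpCat.{u}) (hQ : Injective Q) :
    Injective ((jresSh X J).obj Q) :=
  Adjunction.map_injective (ezShAdj X J) Q hQ

instance : (jresSh X J).Additive where

instance : (ezSh X J).Additive := (ezShAdj X J).left_adjoint_additive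

instance : PreservesFiniteColimits (ezSh X J) := by
  haveI : PreservesColimitsOfSize.{0, 0} (ezSh X J) := (ezShAdj X J).leftAdjoint_preservesColimits
  exact PreservesColimitsOfSize.preservesFiniteColimits _

instance : (ezSh X J).PreservesHomology := by
  refine ((ezSh X J).exact_tfae.out 0 2).1 (fun S hS => ?_)
  have hc : PreservesFiniteColimits (ezSh X J) := inferInstance
  have h := ((ezSh X J).preservesFiniteColimits_iff_forall_exact_map_and_epi).1 hc S hS
  haveI := hS.mono_f
  haveI : Mono (S.map (ezSh X J)).f := by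
    change Mono ((ezSh X J).map S.f)
    infer_instance
  haveI : Epi (S.map (ezSh X J)).g := h.2
  exact ⟨h.1⟩

/-- restriction to the slice site preserves K-injective complexes. -/
lemma isKInjective_jresSh (I : CochainComplex (Sheaf J AddCommGrpCat.{u}) ℤ) [I.IsKInjective] :
    CochainComplex.IsKInjective
      (((jresSh X J).mapHomologicalComplex (ComplexShape.up ℤ)).obj I) :=
  Groth.Agent.LD.SC.isKInjective_map_of_adjunction (ezShAdj X J) I

instance : PreservesFiniteLimits (jresSh X J) := by
  haveI : PreservesLimitsOfSize.{0, 0} (jresSh X J) := (ezShAdj X J).rightAdjoint_preservesLimits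
  exact PreservesLimitsOfSize.preservesFiniteLimits _

instance : (jresSh X J).PreservesEpimorphisms :=
  Functor.preservesEpimorphisms_of_adjunction
    ((Over.forget X).sheafAdjunctionCocontinuous AddCommGrpCat.{u} (J.over X) J)

/-- the higher derived functors of restriction to the slice vanish. -/
lemma isZero_rightDerived_jresSh (F : Sheaf J AddCommGrpCat.{u}) (q : ℕ) :
    IsZero (((jresSh X J).rightDerived (q + 1)).obj F) :=
  Groth.Agent.LD.SC.isZero_rightDerived_succ_of_preservesEpi (jresSh X J) F q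

end Sheaf

end Groth.Agent.LD.AbPull
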