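import Groth.Agent.Lib.Lead.GSS.HomEquivIso
import Groth.Agent.Lib.Lead.SC.MapRes
import Groth.Agent.Lib.Lead.SC.ExtRes

/-! # Degenerate Leray for a left exact functor with a partial left adjoint. -/

universe v u u'
open CategoryTheory Limits Opposite Abelian

namespace Groth.Agent.LD.AbPull
open Groth.Agent.LD.SC Groth.Agent.LD.GSS

variable {A' : Type u'} [Category.{v} A'] [Abelian A'] [EnoughInjectives A']
  [HasExt.{v} A'] {B : Type u} [Category.{v} B] [Abelian B] [HasExt.{v} B]
  (T : A' ⥤ B) [T.Additive] [PreservesFiniteLimits T] (P : B) (P' : A')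
  (e : ∀ G : A', (P' ⟶ G) ≃ (P ⟶ T.obj G))
  (he : ∀ (G G' : A') (ψ : P' ⟶ G) (g : G ⟶ G'), e G' (ψ ≫ g) = e G ψ ≫ T.map g)
  (hinj : ∀ Q : A', Injective Q → Injective (T.obj Q))

include he hinj in
/-- if the higher derived functors of `T` vanish on `F`, then `Ext(P', F) ≅ Ext(P, T F)`. -/
theorem leray_of_isZero_rightDerived (F : A')
    (h : ∀ q : ℕ, IsZero ((T.rightDerived (q + 1)).obj F)) (p : ℕ) :
    Nonempty (Ext.{v} P' F p ≃+ Ext.{v} P (T.obj F) p) := by
  rcases p with _ | n
  · exact ⟨Ext.addEquiv₀.trans ((homAddEquivOfEquiv T P P' e he F).symm.trans Ext.addEquiv₀.symm)⟩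
  · let R := InjectiveResolution.of F
    let R' := mapInjRes R T (fun n => hinj _ (R.injective n))
      (fun n => by
        rw [HomologicalComplex.exactAt_iff_isZero_homology]
        exact (h n).of_iso (R.isoRightDerivedObj T (n + 1)).symm)
    refine nonempty_ext_equiv_of_homEquiv R _ R' _
      (fun n => (homAddEquivOfEquiv T P P' e he (R.cocomplex.X n)).symm) ?_ n
    intro m g
    exact he _ _ g (R.cocomplex.d m (m + 1))

end Groth.Agent.LD.AbPull
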