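import Groth.Agent.Lib.Lead.AbPull.PushHK
import Groth.Agent.Lib.Lead.GSS.Main

/-! # Direct images of totally acyclic sheaves. -/

universe u
open CategoryTheory Limits Opposite Abelian

namespace Groth.Agent.LD.AbPull
open Groth.Agent.LD.SC Groth.Agent.LD.GSS Groth.Agent.LD.CE

/-- an isomorphism from a natural family of bijections of `Hom`-sets out of two objects. -/
def isoOfHomEquiv {A : Type*} [Category A] {X Y : A} (e : ∀ G : A, (X ⟶ G) ≃ (Y ⟶ G))
    (he : ∀ (G G' : A) (ψ : X ⟶ G) (g : G ⟶ G'), e G' (ψ ≫ g) = e G ψ ≫ g) : X ≅ Y where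
  hom := (e Y).symm (𝟙 Y)
  inv := e X (𝟙 X)
  hom_inv_id := by
    apply (e X).injective
    rw [he, Equiv.apply_symm_apply, Category.id_comp]
  inv_hom_id := by
    have := he X Y (𝟙 X) ((e Y).symm (𝟙 Y))
    rw [Category.id_comp, Equiv.apply_symm_apply] at this
    exact this.symm

variable {C : Type u} [SmallCategory C] (J : GrothendieckTopology C)

noncomputable section

/-- `ℤ[aR]^# ≅ ℤ[R]^#`. -/
def ZRSheafifyIso (R : Cᵒᵖ ⥤ Type u) :
    ZR J ((presheafToSheaf J (Type u)).obj R).obj ≅ ZR J R :=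
  isoOfHomEquiv
    (fun G => ((homEquivR _ G).trans (sheafifyHomEquiv J R G)).trans (homEquivR R G).symm)
    (fun G G' ψ g => by
      apply (homEquivR R G').injective
      rw [homEquivR_comp]
      simp only [Equiv.trans_apply, Equiv.apply_symm_apply]
      rw [homEquivR_comp, sheafifyHomEquiv_comp])

/-- a totally acyclic sheaf is acyclic on every object. -/
lemma subsingleton_ext_ZU_of_isTotallyAcyclic (F : Sheaf J AddCommGrpCat.{u})
    (hF : CohCx.IsTotallyAcyclic F) (U : C) (q : ℕ) :
    Subsingleton (Ext.{u} (ZU J U) F (q + 1)) := by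
  haveI : Subsingleton (Ext.{u} (ZR J ((presheafToSheaf J (Type u)).obj (yoneda.obj U)).obj) F
      (q + 1)) := hF _ q
  exact (extCongrLeft (ZRSheafifyIso J (yoneda.obj U)) (q + 1)).symm.toEquiv.subsingleton

variable {D : Type u} [SmallCategory D] (K : GrothendieckTopology D) (u : D ⥤ C)
  [u.IsContinuous K J] [PreservesFiniteLimits (u.sheafPullback (Type u) K J)]

/-- direct images of totally acyclic sheaves are totally acyclic. -/
theorem isTotallyAcyclic_push (F : Sheaf J AddCommGrpCat.{u})
    (hF : CohCx.IsTotallyAcyclic F) :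
    CohCx.IsTotallyAcyclic ((CohSite.push J K u).obj F) := by
  intro L p
  obtain ⟨e⟩ := leray_of_isZero_rightDerived (CohSite.push J K u) (ZR K L.obj)
    (ZR J ((u.sheafPullback (Type u) K J).obj L).obj) (pushHKEquiv J K u L)
    (fun _ _ ψ g => pushHKEquiv_comp J K u L ψ g) (injective_push J K u) F
    (isZero_rightDerived_push_of_subsingleton J K u F
      (subsingleton_ext_ZU_of_isTotallyAcyclic J F hF)) (p + 1)
  haveI : Subsingleton (Ext.{u} (ZR J ((u.sheafPullback (Type u) K J).obj L).obj) F (p + 1)) :=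
    hF _ p
  exact e.symm.toEquiv.subsingleton

end

end Groth.Agent.LD.AbPull
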