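import Groth.Agent.Lib.Lead.AbPull.Pull
import Groth.Agent.Lib.Lead.GSS.Groth
import Groth.Agent.Lib.Lead.GSS.HomIso
import Groth.Agent.Lib.Lead.SC.Basic
import Groth.Prelude.Def_CohSite

/-! # Direct images along a morphism of topoi: injectives, and `Hom(ℤ_V, u_* -) ≅ Hom(ℤ_{uV}, -)`. -/

universe u
open CategoryTheory Limits Opposite Abelian

namespace Groth.Agent.LD.AbPull
open Groth.Agent.LD.SC Groth.Agent.LD.GSS

variable {C D : Type u} [SmallCategory C] [SmallCategory D]
  (J : GrothendieckTopology C) (K : GrothendieckTopology D) (u : D ⥤ C) [u.IsContinuous K J]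

noncomputable section

/-- the direct image along a morphism of topoi preserves injective abelian sheaves. -/
lemma injective_push [PreservesFiniteLimits (u.sheafPullback (Type u) K J)]
    (Q : Sheaf J AddCommGrpCat.{u}) (hQ : Injective Q) :
    Injective ((CohSite.push J K u).obj Q) := by
  haveI := preservesFiniteLimits_pullA J K u
  haveI : (pullA J K u).PreservesMonomorphisms :=
    preservesMonomorphisms_of_preservesLimitsOfShape _
  exact Adjunction.map_injective (u.sheafAdjunctionContinuous AddCommGrpCat.{u} K J) Q hQ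

/-- evaluation `Hom(ℤ_U, G) → G(U)` as a natural transformation. -/
def secNat (U : C) :
    homF (ZU J U) ⟶ (sheafSections J AddCommGrpCat.{u}).obj (op U) where
  app G := AddCommGrpCat.ofHom (homAddEquiv U G).toAddMonoidHom
  naturality G G' g := by
    refine AddCommGrpCat.hom_ext (AddMonoidHom.ext fun φ => ?_)
    exact homEquiv_comp U φ g

/-- evaluation `Hom(ℤ_V, u_* G) → G(u V)` as a natural transformation. -/
def pushSecNat (V : D) :
    CohSite.push J K u ⋙ homF (ZU K V) ⟶
      (sheafSections J AddCommGrpCat.{u}).obj (op (u.obj V)) where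
  app G := (secNat K V).app ((CohSite.push J K u).obj G)
  naturality G G' g := (secNat K V).naturality ((CohSite.push J K u).map g)

/-- `Hom(ℤ_V, u_* -) ≅ Hom(ℤ_{uV}, -)`. -/
def pushHomIsoSite (V : D) :
    CohSite.push J K u ⋙ homF (ZU K V) ≅ homF (ZU J (u.obj V)) :=
  isoOfSameRange (pushSecNat J K u V) (secNat J (u.obj V))
    (fun G => (homAddEquiv (u.obj V) G).injective)
    (fun G φ => ⟨(homAddEquiv (u.obj V) G).symm ((pushSecNat J K u V).app G φ),
      (homAddEquiv (u.obj V) G).apply_symm_apply _⟩)
    (fun G => (homAddEquiv V ((CohSite.push J K u).obj G)).injective)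
    (fun G ψ => ⟨(homAddEquiv V ((CohSite.push J K u).obj G)).symm
        ((secNat J (u.obj V)).app G ψ),
      (homAddEquiv V ((CohSite.push J K u).obj G)).apply_symm_apply _⟩)

end

end Groth.Agent.LD.AbPull
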