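import Groth.Agent.Lib.Lead.AbPull.ToGrp

/-! # `Sheaf J Ab ≌ CommGrp (Sheaf J Type)`. -/

universe u
open CategoryTheory Limits Opposite MonoidalCategory CartesianMonoidalCategory MonObj

namespace Groth.Agent.LD.AbPull

attribute [-instance] ObjectProperty.fullMonoidalSubcategory

variable {C : Type u} [SmallCategory C] (J : GrothendieckTopology C)

noncomputable section

/-- `G₁`: an abelian sheaf as a commutative group object. -/
def toGrp : Sheaf J AddCommGrpCat.{u} ⥤ CommGrp (Sheaf J (Type u)) where
  obj M := ⟨(US J).obj M⟩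
  map {M N} f := InducedCategory.homMk (Grp.homMk'' ((US J).map f)
    (by
      ext W x
      exact map_zero (f.hom.app W).hom)
    (by
      ext W ⟨a, b⟩
      exact @map_add (M.obj.obj W) (N.obj.obj W) _ _ _ _ _ (f.hom.app W).hom a b))
  map_id M := by
    ext
    rfl
  map_comp f g := by
    ext
    rfl

variable {J}

lemma hom_secOne {Z Z' : CommGrp (Sheaf J (Type u))} (f : Z ⟶ Z') (W : Cᵒᵖ) :
    f.hom.hom.hom.hom.app W (secOne Z W) = secOne Z' W := by
  have := congrArg (fun φ => φ.hom.app W PUnit.unit) (IsMonHom.one_hom f.hom.hom.hom)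
  exact this

lemma hom_secMul {Z Z' : CommGrp (Sheaf J (Type u))} (f : Z ⟶ Z') (W : Cᵒᵖ)
    (a b : Z.X.obj.obj W) :
    f.hom.hom.hom.hom.app W (secMul a b) =
      secMul (f.hom.hom.hom.hom.app W a) (f.hom.hom.hom.hom.app W b) := by
  have := congrArg (fun φ => φ.hom.app W ((a, b) : Z.X.obj.obj W × Z.X.obj.obj W))
    (IsMonHom.mul_hom f.hom.hom.hom)
  exact this

variable (J)

/-- `G₂`: a commutative group object as an abelian sheaf. -/
def ofGrp : CommGrp (Sheaf J (Type u)) ⥤ Sheaf J AddCommGrpCat.{u} where
  obj Z := secSh Z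
  map {Z Z'} f := ObjectProperty.homMk
    { app := fun W => AddCommGrpCat.ofHom
        { toFun := fun a => (f.hom.hom.hom.hom.app W a : Z'.X.obj.obj W)
          map_zero' := hom_secOne f W
          map_add' := fun a b => hom_secMul f W a b }
      naturality := fun W W' g => by
        refine AddCommGrpCat.hom_ext (AddMonoidHom.ext fun a => ?_)
        exact congrArg (fun φ => φ a) (f.hom.hom.hom.hom.naturality g) }
  map_id Z := by
    apply Sheaf.hom_ext
    ext W a
    rfl
  map_comp f g := by
    apply Sheaf.hom_ext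
    ext W a
    rfl

/-- the unit: `M ≅ G₂ (G₁ M)`. -/
def unitIsoApp (M : Sheaf J AddCommGrpCat.{u}) : M ≅ (ofGrp J).obj ((toGrp J).obj M) where
  hom := ObjectProperty.homMk
    { app := fun W => AddCommGrpCat.ofHom
        { toFun := fun a => (a : M.obj.obj W)
          map_zero' := rfl
          map_add' := fun _ _ => rfl }
      naturality := fun W W' g => by
        refine AddCommGrpCat.hom_ext (AddMonoidHom.ext fun a => ?_)
        rfl }
  inv := ObjectProperty.homMk
    { app := fun W => AddCommGrpCat.ofHom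
        { toFun := fun a => (a : M.obj.obj W)
          map_zero' := rfl
          map_add' := fun _ _ => rfl }
      naturality := fun W W' g => by
        refine AddCommGrpCat.hom_ext (AddMonoidHom.ext fun a => ?_)
        rfl }
  hom_inv_id := by
    apply Sheaf.hom_ext
    ext W a
    rfl
  inv_hom_id := by
    apply Sheaf.hom_ext
    ext W a
    rfl

/-- the unit natural isomorphism. -/
def unitIso : 𝟭 (Sheaf J AddCommGrpCat.{u}) ≅ toGrp J ⋙ ofGrp J :=
  NatIso.ofComponents (unitIsoApp J) (fun f => by
    apply Sheaf.hom_ext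
    ext W a
    rfl)

/-- the underlying isomorphism of sheaves of sets of the counit. -/
def counitUnderIso (Z : CommGrp (Sheaf J (Type u))) : (US J).obj (secSh Z) ≅ Z.X where
  hom := ObjectProperty.homMk (secPshForgetIso Z).hom
  inv := ObjectProperty.homMk (secPshForgetIso Z).inv
  hom_inv_id := by
    apply Sheaf.hom_ext
    exact (secPshForgetIso Z).hom_inv_id
  inv_hom_id := by
    apply Sheaf.hom_ext
    exact (secPshForgetIso Z).inv_hom_id

/-- the counit: `G₁ (G₂ Z) ≅ Z`. -/
def counitIsoApp (Z : CommGrp (Sheaf J (Type u))) : (toGrp J).obj ((ofGrp J).obj Z) ≅ Z :=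
  CommGrp.mkIso (counitUnderIso J Z)
    (by
      ext W x
      rfl)
    (by
      ext W ⟨a, b⟩
      rfl)

/-- the counit natural isomorphism. -/
def counitIso : ofGrp J ⋙ toGrp J ≅ 𝟭 (CommGrp (Sheaf J (Type u))) :=
  NatIso.ofComponents (counitIsoApp J) (fun f => by
    ext W a
    rfl)

/-- **abelian sheaves are the commutative group objects in sheaves of sets.** -/
def abEquiv : Sheaf J AddCommGrpCat.{u} ≌ CommGrp (Sheaf J (Type u)) :=
  CategoryTheory.Equivalence.mk (toGrp J) (ofGrp J) (unitIso J) (counitIso J)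

end

end Groth.Agent.LD.AbPull
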