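import Groth.Agent.Lib.Lead.AbPull.SitePush
import Groth.Agent.Lib.Lead.SC.CohPsh4
import Groth.Agent.Lib.Lead.SC.MapRes
import Groth.Agent.Lib.Lead.SC.ExtRes

/-! # Degenerate Leray for a morphism of topoi. -/

universe u
open CategoryTheory Limits Opposite Abelian

namespace Groth.Agent.LD.AbPull
open Groth.Agent.LD.SC Groth.Agent.LD.GSS

variable {C D : Type u} [SmallCategory C] [SmallCategory D]
  (J : GrothendieckTopology C) (K : GrothendieckTopology D) (u : D ⥤ C) [u.IsContinuous K J]

/-- if `F` is acyclic on every object, its higher direct images vanish. -/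
theorem isZero_rightDerived_push_of_subsingleton (F : Sheaf J AddCommGrpCat.{u})
    (hF : ∀ (U : C) (q : ℕ), Subsingleton (Ext.{u} (ZU J U) F (q + 1))) (q : ℕ) :
    IsZero (((pushS J K u).rightDerived (q + 1)).obj F) := by
  obtain ⟨e⟩ := nonempty_rightDerived_push_iso J K u F (q + 1)
  refine IsZero.of_iso ?_ e
  refine Functor.map_isZero _ ?_
  refine Functor.isZero _ (fun V => ?_)
  haveI : Subsingleton ((u.op ⋙ Sheaf.cohomologyPresheaf.{u} F (q + 1)).obj V) :=
    hF (u.obj V.unop) q
  exact AddCommGrpCat.isZero_of_subsingleton _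

variable [PreservesFiniteLimits (u.sheafPullback (Type u) K J)]

theorem leray_site_of_isZero_rightDerived (F : Sheaf J AddCommGrpCat.{u})
    (h : ∀ q : ℕ, IsZero (((pushS J K u).rightDerived (q + 1)).obj F)) (V : D) (p : ℕ) :
    Nonempty (Ext.{u} (ZU J (u.obj V)) F p ≃+ Ext.{u} (ZU K V) ((pushS J K u).obj F) p) := by
  rcases p with _ | n
  · exact ⟨(H0Equiv (u.obj V) F).trans (H0Equiv V ((pushS J K u).obj F)).symm⟩
  · let R := InjectiveResolution.of F
    let R' := mapInjRes R (pushS J K u) (fun n => injective_push J K u _ (R.injective n))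
      (fun n => by
        rw [HomologicalComplex.exactAt_iff_isZero_homology]
        exact (h n).of_iso (R.isoRightDerivedObj (pushS J K u) (n + 1)).symm)
    refine nonempty_ext_equiv_of_homEquiv R _ R' _
      (fun n => (homAddEquiv (u.obj V) (R.cocomplex.X n)).trans
        (homAddEquiv V ((pushS J K u).obj (R.cocomplex.X n))).symm) ?_ n
    intro m g
    apply (homAddEquiv V ((pushS J K u).obj (R.cocomplex.X (m + 1)))).injective
    change homEquiv V _ ((homEquiv V ((pushS J K u).obj (R.cocomplex.X (m + 1)))).symm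
      (homEquiv (u.obj V) _ (g ≫ R.cocomplex.d m (m + 1)))) =
      homEquiv V _ ((homEquiv V ((pushS J K u).obj (R.cocomplex.X m))).symm
        (homEquiv (u.obj V) _ g) ≫ (pushS J K u).map (R.cocomplex.d m (m + 1)))
    rw [Equiv.apply_symm_apply, homEquiv_comp, homEquiv_comp, Equiv.apply_symm_apply]
    rfl

end Groth.Agent.LD.AbPull
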