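import Groth.Agent.Lib.Lead.AbPull.ExtZeroOver
import Groth.Agent.Lib.Lead.AbPull.PushAcyc
import Groth.Agent.Lib.Lead.SC.Global

/-! # Restriction to the slice site: totally acyclic sheaves and cohomology. -/

universe u
open CategoryTheory Limits Opposite Abelian

namespace Groth.Agent.LD.AbPull
open Groth.Agent.LD.SC Groth.Agent.LD.GSS Groth.Agent.LD.CE

variable {C : Type u} [SmallCategory C] (J : GrothendieckTopology C) (X : C)

/-- `Ext(ℤ[j_! L], F) ≅ Ext(ℤ[L], j^* F)`. -/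
theorem nonempty_ext_over_equiv (F : Sheaf J AddCommGrpCat.{u}) (L : Sheaf (J.over X) (Type u))
    (p : ℕ) :
    Nonempty (Ext.{u} (ZR J (((Over.forget X).sheafPullback (Type u) (J.over X) J).obj L).obj) F p
      ≃+ Ext.{u} (ZR (J.over X) L.obj) ((jresSh X J).obj F) p) :=
  leray_of_isZero_rightDerived (jresSh X J) (ZR (J.over X) L.obj)
    (ZR J (((Over.forget X).sheafPullback (Type u) (J.over X) J).obj L).obj)
    (pushHKEquiv J (J.over X) (Over.forget X) L)
    (fun _ _ ψ g => pushHKEquiv_comp J (J.over X) (Over.forget X) L ψ g)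
    (injective_jresSh X J) F (isZero_rightDerived_jresSh X J F) p

/-- restrictions of totally acyclic sheaves to a slice are totally acyclic. -/
theorem isTotallyAcyclic_jresSh (F : Sheaf J AddCommGrpCat.{u})
    (hF : CohCx.IsTotallyAcyclic F) :
    CohCx.IsTotallyAcyclic ((jresSh X J).obj F) := by
  intro L p
  obtain ⟨e⟩ := nonempty_ext_over_equiv J X F L (p + 1)
  haveI : Subsingleton (Ext.{u}
      (ZR J (((Over.forget X).sheafPullback (Type u) (J.over X) J).obj L).obj) F (p + 1)) :=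
    hF _ p
  exact e.symm.toEquiv.subsingleton

/-- `Hom(ℤ_X, G) ≃ Hom(ℤ_{id_X}, j^* G)`. -/
noncomputable def overIdHomEquiv (G : Sheaf J AddCommGrpCat.{u}) :
    (ZU J X ⟶ G) ≃ (ZU (J.over X) (Over.mk (𝟙 X)) ⟶ (jresSh X J).obj G) :=
  (homEquiv X G).trans (homEquiv (Over.mk (𝟙 X)) ((jresSh X J).obj G)).symm

lemma overIdHomEquiv_comp {G G' : Sheaf J AddCommGrpCat.{u}} (ψ : ZU J X ⟶ G) (g : G ⟶ G') :
    overIdHomEquiv J X G' (ψ ≫ g) = overIdHomEquiv J X G ψ ≫ (jresSh X J).map g := by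
  apply (homEquiv (Over.mk (𝟙 X)) ((jresSh X J).obj G')).injective
  rw [homEquiv_comp]
  simp only [overIdHomEquiv, Equiv.trans_apply]
  rw [homEquiv_comp]
  refine ((homEquiv (Over.mk (𝟙 X)) ((jresSh X J).obj G')).apply_symm_apply _).trans ?_
  exact congrArg (fun t => g.hom.app (op X) t)
    ((homEquiv (Over.mk (𝟙 X)) ((jresSh X J).obj G)).apply_symm_apply _).symm

/-- `H^n(X, F) ≅ H^n(C/X, F|_X)`. -/
theorem nonempty_ext_over_id_equiv (F : Sheaf J AddCommGrpCat.{u}) (p : ℕ) :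
    Nonempty (Ext.{u} (ZU J X) F p ≃+ Sheaf.H.{u} ((jresSh X J).obj F) p) := by
  obtain ⟨e⟩ := leray_of_isZero_rightDerived (jresSh X J) (ZU (J.over X) (Over.mk (𝟙 X)))
    (ZU J X) (overIdHomEquiv J X) (fun _ _ ψ g => overIdHomEquiv_comp J X ψ g)
    (injective_jresSh X J) F (isZero_rightDerived_jresSh X J F) p
  exact ⟨e.trans (HEquiv Over.mkIdTerminal ((jresSh X J).obj F) p).symm⟩

end Groth.Agent.LD.AbPull
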