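import Groth.Agent.Lib.Lead.AbPull.Equiv

/-! # Exactness of the abelian sheaf pullback of a morphism of topoi. -/

universe u
open CategoryTheory Limits Opposite MonoidalCategory CartesianMonoidalCategory MonObj

namespace Groth.Agent.LD.AbPull

attribute [-instance] ObjectProperty.fullMonoidalSubcategory

variable {C D : Type u} [SmallCategory C] [SmallCategory D]
  (J : GrothendieckTopology C) (K : GrothendieckTopology D) (u : D ⥤ C) [u.IsContinuous K J]

noncomputable section

abbrev pushT : Sheaf J (Type u) ⥤ Sheaf K (Type u) := u.sheafPushforwardContinuous (Type u) K J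
abbrev pullT : Sheaf K (Type u) ⥤ Sheaf J (Type u) := u.sheafPullback (Type u) K J
abbrev pushA : Sheaf J AddCommGrpCat.{u} ⥤ Sheaf K AddCommGrpCat.{u} :=
  u.sheafPushforwardContinuous AddCommGrpCat.{u} K J
abbrev pullA : Sheaf K AddCommGrpCat.{u} ⥤ Sheaf J AddCommGrpCat.{u} :=
  u.sheafPullback AddCommGrpCat.{u} K J

instance : PreservesLimits (pushT J K u) :=
  (u.sheafAdjunctionContinuous (Type u) K J).rightAdjoint_preservesLimits

instance braidedPushT : (pushT J K u).Braided := .ofChosenFiniteProducts _

lemma mu_pushT_mul (M : Sheaf J AddCommGrpCat.{u}) :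
    Functor.LaxMonoidal.μ (pushT J K u) ((US J).obj M) ((US J).obj M) ≫
      (pushT J K u).map (mulHom M) = mulHom ((pushA J K u).obj M) := by
  rw [Functor.Monoidal.μ_of_cartesianMonoidalCategory, Iso.inv_comp_eq]
  ext V ⟨a, b⟩
  rfl

/-- `G₁` commutes with the direct images. -/
def toGrpPushIso : toGrp J ⋙ (pushT J K u).mapCommGrp ≅ pushA J K u ⋙ toGrp K :=
  NatIso.ofComponents (fun M => CommGrp.mkIso (Iso.refl _)
    (by
      ext V x
      rfl)
    (by
      erw [Category.comp_id, MonoidalCategory.id_tensorHom_id, Category.id_comp]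
      exact mu_pushT_mul J K u M))
    (fun f => by
      ext V a
      rfl)


section Exact

variable [PreservesFiniteLimits (pullT J K u)]

instance braidedPullT : (pullT J K u).Braided := .ofChosenFiniteProducts _

/-- the candidate abelian pullback: apply the pullback of sheaves of sets to the underlying
commutative group object. -/
def pullA' : Sheaf K AddCommGrpCat.{u} ⥤ Sheaf J AddCommGrpCat.{u} :=
  (toGrp K ⋙ (pullT J K u).mapCommGrp) ⋙ ofGrp J

/-- the underlying sheaf of sets of `pullA'`. -/
def pullA'CompUS : pullA' J K u ⋙ US J ≅ US K ⋙ pullT J K u :=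
  NatIso.ofComponents (fun F => counitUnderIso J _) (fun f => by
    apply Sheaf.hom_ext
    ext W a
    rfl)

instance : PreservesLimits (US J) :=
  (Sheaf.adjunction J AddCommGrpCat.adj.{u}).rightAdjoint_preservesLimits

instance : PreservesFiniteLimits (pullA' J K u) := by
  haveI : PreservesFiniteLimits (pullA' J K u ⋙ US J) :=
    preservesFiniteLimits_of_natIso (pullA'CompUS J K u).symm
  haveI : ReflectsFiniteLimits (US J) := ⟨fun I _ _ =>
    reflectsLimitsOfShape_of_reflectsIsomorphisms⟩
  exact preservesFiniteLimits_of_reflects_of_preserves (pullA' J K u) (US J)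

/-- `pullA'` is left adjoint to the direct image of abelian sheaves. -/
def adjA' : pullA' J K u ⊣ pushA J K u :=
  ((((abEquiv K).toAdjunction.comp
    ((u.sheafAdjunctionContinuous (Type u) K J).mapCommGrp)).comp
      (abEquiv J).symm.toAdjunction)).ofNatIsoRight
    (Functor.isoWhiskerRight (toGrpPushIso J K u) (ofGrp K) ≪≫
      Functor.isoWhiskerLeft (pushA J K u) (unitIso K).symm ≪≫ Functor.rightUnitor _)

/-- the abelian sheaf pullback agrees with `pullA'`. -/
def pullAIso : pullA' J K u ≅ pullA J K u :=
  (adjA' J K u).leftAdjointUniq (u.sheafAdjunctionContinuous AddCommGrpCat.{u} K J)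

/-- **the pullback of abelian sheaves along a morphism of topoi is exact.** -/
theorem preservesFiniteLimits_pullA : PreservesFiniteLimits (pullA J K u) :=
  preservesFiniteLimits_of_natIso (pullAIso J K u)

end Exact

end

end Groth.Agent.LD.AbPull
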