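import Groth.Agent.Lib.Lead.AbPull.LerayGen
import Groth.Agent.Lib.Lead.AbPull.LerayDeg
import Groth.Agent.Lib.Lead.CechExt.Free
import Groth.Prelude.Def_CohCx

/-! # Cohomology with respect to sheaves of sets and direct images. -/

universe u
open CategoryTheory Limits Opposite Abelian

namespace Groth.Agent.LD.AbPull
open Groth.Agent.LD.SC Groth.Agent.LD.GSS Groth.Agent.LD.CE

variable {C D : Type u} [SmallCategory C] [SmallCategory D]
  (J : GrothendieckTopology C) (K : GrothendieckTopology D) (u : D ⥤ C) [u.IsContinuous K J]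

noncomputable section

/-- maps of sheaves of sets into the underlying sheaf of an abelian sheaf. -/
def sheafHomEquiv' (L : Sheaf J (Type u)) (G : Sheaf J AddCommGrpCat.{u}) :
    (L.obj ⟶ G.obj ⋙ forget AddCommGrpCat.{u}) ≃ (L ⟶ (USh J).obj G) where
  toFun φ := ObjectProperty.homMk φ
  invFun ψ := ψ.hom
  left_inv _ := rfl
  right_inv _ := rfl

/-- maps into the underlying sheaf of a direct image. -/
def pushHomEquiv' (L : Sheaf K (Type u)) (G : Sheaf J AddCommGrpCat.{u}) :
    (L ⟶ (u.sheafPushforwardContinuous (Type u) K J).obj ((USh J).obj G)) ≃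
      (L.obj ⟶ ((CohSite.push J K u).obj G).obj ⋙ forget AddCommGrpCat.{u}) where
  toFun φ := φ.hom
  invFun ψ := ObjectProperty.homMk ψ
  left_inv _ := rfl
  right_inv _ := rfl

/-- `Hom(ℤ[u⁻¹L], G) ≃ Hom(ℤ[L], u_* G)`. -/
def pushHKEquiv (L : Sheaf K (Type u)) (G : Sheaf J AddCommGrpCat.{u}) :
    (ZR J ((u.sheafPullback (Type u) K J).obj L).obj ⟶ G) ≃
      (ZR K L.obj ⟶ (CohSite.push J K u).obj G) :=
  (homEquivR _ G).trans <| (sheafHomEquiv' J _ G).trans <|
    ((u.sheafAdjunctionContinuous (Type u) K J).homEquiv L ((USh J).obj G)).trans <|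
      (pushHomEquiv' J K u L G).trans (homEquivR _ _).symm

lemma pushHKEquiv_comp (L : Sheaf K (Type u)) {G G' : Sheaf J AddCommGrpCat.{u}}
    (ψ : ZR J ((u.sheafPullback (Type u) K J).obj L).obj ⟶ G) (g : G ⟶ G') :
    pushHKEquiv J K u L G' (ψ ≫ g) = pushHKEquiv J K u L G ψ ≫ (CohSite.push J K u).map g := by
  apply (homEquivR L.obj ((CohSite.push J K u).obj G')).injective
  rw [homEquivR_comp]
  simp only [pushHKEquiv, Equiv.trans_apply, Equiv.apply_symm_apply]
  rw [homEquivR_comp]
  have := (u.sheafAdjunctionContinuous (Type u) K J).homEquiv_naturality_right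
    (sheafHomEquiv' J _ G (homEquivR _ G ψ)) ((USh J).map g)
  exact congrArg (pushHomEquiv' J K u L G') this

end

end Groth.Agent.LD.AbPull
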