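import Mathlib

/-! # Commutative group objects in sheaves of sets give abelian sheaves (sectionwise). -/

universe u
open CategoryTheory Limits Opposite MonoidalCategory CartesianMonoidalCategory MonObj

namespace Groth.Agent.LD.AbPull

attribute [-instance] ObjectProperty.fullMonoidalSubcategory

variable {C : Type u} [SmallCategory C] (J : GrothendieckTopology C)

noncomputable section

instance braidedSh : @BraidedCategory (Sheaf J (Type u)) _
    (@SemiCartesianMonoidalCategory.toMonoidalCategory _ _
      (@CartesianMonoidalCategory.toSemiCartesianMonoidalCategory (Sheaf J (Type u)) _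
        inferInstance)) :=
  .ofCartesianMonoidalCategory

variable {J}
variable (Z : CommGrp (Sheaf J (Type u))) (W : Cᵒᵖ)

/-- sections of a commutative group object, as a type carrying an additive group structure. -/
def Sec : Type u := Z.X.obj.obj W

variable {Z W}

def secMul (a b : Z.X.obj.obj W) : Z.X.obj.obj W :=
  (μ[Z.X]).hom.app W ((a, b) : Z.X.obj.obj W × Z.X.obj.obj W)

variable (Z W) in
def secOne : Z.X.obj.obj W := (η[Z.X]).hom.app W PUnit.unit

def secInv (a : Z.X.obj.obj W) : Z.X.obj.obj W := (ι[Z.X]).hom.app W a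

lemma secMul_assoc (a b c : Z.X.obj.obj W) :
    secMul (secMul a b) c = secMul a (secMul b c) := by
  have := congrArg (fun φ => φ.hom.app W
    (((a, b), c) : (Z.X.obj.obj W × Z.X.obj.obj W) × Z.X.obj.obj W)) (MonObj.mul_assoc Z.X)
  exact this

lemma secOne_mul (a : Z.X.obj.obj W) : secMul (secOne Z W) a = a := by
  have := congrArg (fun φ => φ.hom.app W ((PUnit.unit, a) : PUnit × Z.X.obj.obj W))
    (MonObj.one_mul Z.X)
  exact this

lemma secMul_comm (a b : Z.X.obj.obj W) : secMul a b = secMul b a := by
  have := congrArg (fun φ => φ.hom.app W ((b, a) : Z.X.obj.obj W × Z.X.obj.obj W))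
    (IsCommMonObj.mul_comm Z.X)
  exact this

lemma secInv_mul (a : Z.X.obj.obj W) : secMul (secInv a) a = secOne Z W := by
  have := congrArg (fun φ => φ.hom.app W a) (GrpObj.left_inv Z.X)
  exact this

instance : Add (Sec Z W) := ⟨fun a b => secMul (Z := Z) (W := W) a b⟩
instance : Zero (Sec Z W) := ⟨secOne Z W⟩
instance : Neg (Sec Z W) := ⟨fun a => secInv (Z := Z) (W := W) a⟩

instance : AddCommGroup (Sec Z W) :=
  { AddGroup.ofLeftAxioms (G := Sec Z W)
      (fun a b c => secMul_assoc (Z := Z) (W := W) a b c)
      (fun a => secOne_mul (Z := Z) (W := W) a)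
      (fun a => secInv_mul (Z := Z) (W := W) a) with
    add_comm := fun a b => secMul_comm (Z := Z) (W := W) a b }

lemma sec_add_def (a b : Sec Z W) : a + b = secMul (Z := Z) (W := W) a b := rfl
lemma sec_zero_def : (0 : Sec Z W) = secOne Z W := rfl

variable {W' : Cᵒᵖ}

lemma map_secMul (g : W ⟶ W') (a b : Z.X.obj.obj W) :
    Z.X.obj.map g (secMul a b) = secMul (Z.X.obj.map g a) (Z.X.obj.map g b) := by
  have := congrArg (fun φ => φ ((a, b) : Z.X.obj.obj W × Z.X.obj.obj W))
    ((μ[Z.X]).hom.naturality g)
  exact this.symm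

lemma map_secOne (g : W ⟶ W') : Z.X.obj.map g (secOne Z W) = secOne Z W' := by
  have := congrArg (fun φ => φ PUnit.unit) ((η[Z.X]).hom.naturality g)
  exact this.symm

variable (Z) in
/-- the presheaf of abelian groups of sections. -/
def secPsh : Cᵒᵖ ⥤ AddCommGrpCat.{u} where
  obj W := AddCommGrpCat.of (Sec Z W)
  map {W W'} g := AddCommGrpCat.ofHom
    { toFun := fun a => (Z.X.obj.map g a : Z.X.obj.obj W')
      map_zero' := map_secOne g
      map_add' := fun a b => map_secMul g a b }
  map_id W := by
    refine AddCommGrpCat.hom_ext (AddMonoidHom.ext fun a => ?_)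
    exact congrArg (fun φ => φ a) (Z.X.obj.map_id W)
  map_comp g h := by
    refine AddCommGrpCat.hom_ext (AddMonoidHom.ext fun a => ?_)
    exact congrArg (fun φ => φ a) (Z.X.obj.map_comp g h)

variable (Z) in
/-- the underlying presheaf of sets of `secPsh`. -/
def secPshForgetIso : secPsh Z ⋙ forget AddCommGrpCat.{u} ≅ Z.X.obj :=
  NatIso.ofComponents (fun W => Iso.refl _) (fun g => by rfl)

variable (Z) in
lemma isSheaf_secPsh : Presheaf.IsSheaf J (secPsh Z) := by
  rw [Presheaf.isSheaf_iff_isSheaf_forget J (secPsh Z) (forget AddCommGrpCat.{u}),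
    Presheaf.isSheaf_of_iso_iff (secPshForgetIso Z)]
  exact Z.X.property

variable (Z) in
/-- the abelian sheaf of sections of a commutative group object. -/
def secSh : Sheaf J AddCommGrpCat.{u} := ⟨secPsh Z, isSheaf_secPsh Z⟩

end

end Groth.Agent.LD.AbPull
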