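import Groth.Agent.Lib.Lead.AbPull.Sect

/-! # Abelian sheaves as commutative group objects in sheaves of sets. -/

universe u
open CategoryTheory Limits Opposite MonoidalCategory CartesianMonoidalCategory MonObj

namespace Groth.Agent.LD.AbPull

attribute [-instance] ObjectProperty.fullMonoidalSubcategory

variable {C : Type u} [SmallCategory C] {J : GrothendieckTopology C}

noncomputable section

/-- the underlying sheaf of sets. -/
abbrev US (J : GrothendieckTopology C) : Sheaf J AddCommGrpCat.{u} ⥤ Sheaf J (Type u) :=
  sheafCompose J (forget AddCommGrpCat.{u})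

variable (M : Sheaf J AddCommGrpCat.{u})

def oneHom : 𝟙_ (Sheaf J (Type u)) ⟶ (US J).obj M :=
  ObjectProperty.homMk
    { app := fun W => ↾(fun _ => (0 : M.obj.obj W))
      naturality := fun W W' g => by
        ext x
        exact (map_zero (M.obj.map g).hom).symm }

def mulHom : (US J).obj M ⊗ (US J).obj M ⟶ (US J).obj M :=
  ObjectProperty.homMk
    { app := fun W => ↾(fun (p : M.obj.obj W × M.obj.obj W) => (p.1 + p.2 : M.obj.obj W))
      naturality := fun W W' g => by
        ext ⟨a, b⟩
        exact (@map_add (M.obj.obj W) (M.obj.obj W') _ _ _ _ _ (M.obj.map g).hom a b).symm }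

def invHom : (US J).obj M ⟶ (US J).obj M :=
  ObjectProperty.homMk
    { app := fun W => ↾(fun (a : M.obj.obj W) => (-a : M.obj.obj W))
      naturality := fun W W' g => by
        ext a
        exact (@map_neg (M.obj.obj W) (M.obj.obj W') _ _ _ _ _ (M.obj.map g).hom a).symm }

instance grpObjUS : GrpObj ((US J).obj M) where
  one := oneHom M
  mul := mulHom M
  inv := invHom M
  one_mul := by
    ext W ⟨x, a⟩
    exact @zero_add (M.obj.obj W) _ a
  mul_one := by
    ext W ⟨a, x⟩
    exact @add_zero (M.obj.obj W) _ a
  mul_assoc := by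
    ext W ⟨⟨a, b⟩, c⟩
    exact @add_assoc (M.obj.obj W) _ a b c
  left_inv := by
    ext W a
    exact @neg_add_cancel (M.obj.obj W) _ a
  right_inv := by
    ext W a
    exact @add_neg_cancel (M.obj.obj W) _ a

instance isCommUS : IsCommMonObj ((US J).obj M) where
  mul_comm := by
    ext W ⟨a, b⟩
    exact @add_comm (M.obj.obj W) _ b a

end

end Groth.Agent.LD.AbPull
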